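import Groth.Agent.SpecialGLLib.CommSplit
import Mathlib

/-!
# A connected commutative affine group over an algebraically closed field is an open cell
-/

set_option autoImplicit false
set_option maxHeartbeats 1000000
set_option linter.style.haveILetI false
set_option backward.isDefEq.respectTransparency false

universe u

open TensorProduct WithConv

noncomputable section

namespace Groth.Agent.PicProdGrp

open Groth.Agent.SpecialGL Groth.Agent.SpecialGL.Comm
open Groth.Agent.SpecialGL.Hopf

variable {k : Type u} [Field k]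

variable (k) in
/-- The spectrum is a principal open subscheme of an affine space. -/
def IsCell (N : Type u) [CommRing N] [Algebra k N] : Prop :=
  ∃ (n : ℕ) (g : MvPolynomial (Fin n) k →ₐ[k] N), g.toRingHom.IsStandardOpenImmersion

theorem soi_comp {A B C : Type u} [CommRing A] [CommRing B] [CommRing C] [Algebra k A] [Algebra k B] [Algebra k C]
    {f : A →ₐ[k] B} {g : B →ₐ[k] C} (hf : f.toRingHom.IsStandardOpenImmersion)
    (hg : g.toRingHom.IsStandardOpenImmersion) : (g.comp f).toRingHom.IsStandardOpenImmersion :=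
  RingHom.IsStandardOpenImmersion.comp hf hg

theorem soi_equiv {A B : Type u} [CommRing A] [CommRing B] [Algebra k A] [Algebra k B] (e : A ≃ₐ[k] B) :
    e.toAlgHom.toRingHom.IsStandardOpenImmersion :=
  RingHom.IsStandardOpenImmersion.of_bijective e.bijective

theorem IsCell.of_algEquiv {N N' : Type u} [CommRing N] [Algebra k N] [CommRing N'] [Algebra k N']
    (h : IsCell k N) (e : N ≃ₐ[k] N') : IsCell k N' := by
  obtain ⟨n, g, hg⟩ := h
  exact ⟨n, e.toAlgHom.comp g, soi_comp hg (soi_equiv e)⟩

theorem soi_map_id {A B : Type u} [CommRing A] [CommRing B] [Algebra k A] [Algebra k B]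
    (S : Type u) [CommRing S] [Algebra k S] (g : A →ₐ[k] B) (hg : g.toRingHom.IsStandardOpenImmersion) :
    (Algebra.TensorProduct.map (AlgHom.id k S) g).toRingHom.IsStandardOpenImmersion := by
  letI : Algebra A B := g.toRingHom.toAlgebra
  haveI : IsScalarTower k A B := IsScalarTower.of_algebraMap_eq fun r => (g.commutes r).symm
  obtain ⟨r, hr⟩ := hg.toAlgebra.exists_away
  letI : Algebra (S ⊗[k] A) (S ⊗[k] B) :=
    (Algebra.TensorProduct.map (AlgHom.id k S) g).toRingHom.toAlgebra
  haveI : IsScalarTower S (S ⊗[k] A) (S ⊗[k] B) :=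
    .of_algebraMap_eq fun x => by simp [RingHom.algebraMap_toAlgebra]
  haveI h1 := IsLocalization.tensorProduct_tensorProduct_right k S (Submonoid.powers r) B
    (by ext x; simp [RingHom.algebraMap_toAlgebra])
  rw [Submonoid.map_powers] at h1
  exact ⟨_, h1⟩

theorem exists_split_vars (m n : ℕ) : Nonempty (MvPolynomial (Fin (n + m)) k ≃ₐ[k]
    MvPolynomial (Fin m) k ⊗[k] MvPolynomial (Fin n) k) := by
  let e₁ : MvPolynomial (Fin (n + m)) k ≃ₐ[k] MvPolynomial (Fin n ⊕ Fin m) k :=
    MvPolynomial.renameEquiv k finSumFinEquiv.symm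
  let e₂ : MvPolynomial (Fin n ⊕ Fin m) k ≃ₐ[k] MvPolynomial (Fin n) (MvPolynomial (Fin m) k) :=
    MvPolynomial.sumAlgEquiv k (Fin n) (Fin m)
  let e₃ : MvPolynomial (Fin m) k ⊗[k] MvPolynomial (Fin n) k ≃+* MvPolynomial (Fin n) (MvPolynomial (Fin m) k) :=
    (MvPolynomial.algebraTensorAlgEquiv (R := k) (A := MvPolynomial (Fin m) k) (σ := Fin n)).toRingEquiv
  let e₃' : MvPolynomial (Fin m) k ⊗[k] MvPolynomial (Fin n) k ≃ₐ[k] MvPolynomial (Fin n) (MvPolynomial (Fin m) k) :=
    AlgEquiv.ofRingEquiv (f := e₃) fun r => by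
      show MvPolynomial.algebraTensorAlgEquiv k (MvPolynomial (Fin m) k) (algebraMap k (MvPolynomial (Fin m) k) r ⊗ₜ[k] (1 : MvPolynomial (Fin n) k)) = _
      simp [MvPolynomial.algebraTensorAlgEquiv_tmul, Algebra.smul_def]
  exact ⟨(e₁.trans e₂).trans e₃'.symm⟩

/-- Products of cells are cells. -/
theorem IsCell.tensor {B N : Type u} [CommRing B] [Algebra k B] [CommRing N] [Algebra k N]
    (hB : IsCell k B) (hN : IsCell k N) : IsCell k (B ⊗[k] N) := by
  obtain ⟨m, g, hg⟩ := hB
  obtain ⟨n, h, hh⟩ := hN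
  obtain ⟨e⟩ := exists_split_vars (k := k) m n
  have h1 := soi_map_id (MvPolynomial (Fin m) k) h hh
  have h2 := soi_map_id N g hg
  have h3 := soi_comp (soi_equiv e) h1
  have h4 := soi_comp h3 (soi_equiv (Algebra.TensorProduct.comm k (MvPolynomial (Fin m) k) N))
  have h5 := soi_comp h4 h2
  exact ⟨n + m, _, soi_comp h5 (soi_equiv (Algebra.TensorProduct.comm k N B))⟩

/-- The affine line. -/
theorem isCell_polynomial : IsCell k (Polynomial k) :=
  ⟨1, _, soi_equiv (MvPolynomial.uniqueAlgEquiv k (Fin 1))⟩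

/-- The multiplicative group. -/
theorem isCell_addMonoidAlgebra : IsCell k (AddMonoidAlgebra k ℤ) := by
  let t : Polynomial k →ₐ[k] LaurentPolynomial k := Polynomial.toLaurentAlg
  have ht : t.toRingHom.IsStandardOpenImmersion := by
    have h := RingHom.IsStandardOpenImmersion.algebraMap (R := Polynomial k) (S := LaurentPolynomial k) Polynomial.X
    exact h
  exact ⟨1, _, soi_comp (soi_equiv (MvPolynomial.uniqueAlgEquiv k (Fin 1))) ht⟩

variable {A : Type u} [CommRing A] [HopfAlgebra k A]

theorem exists_stepElem [IsAlgClosed k] {N : Type u} [CommRing N] [HopfAlgebra k N] [IsDomain N]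
    [Algebra.FiniteType k N] [Coalgebra.IsCocomm k N]
    (htriv : ¬ ∀ n : N, ∃ r : k, n = algebraMap k N r) : ∃ x : N, IsStepElem (k := k) x ∧ x ≠ 0 := by
      by_cases hg : ∀ g : GroupLike k N, (g : N) = 1
      · haveI := LieKolchin.TrigDiag.isHopfIdeal_charIdeal k N
        have hJ : LieKolchin.TrigDiag.charIdeal k N = ⊥ := by
          refine le_bot_iff.mp ((LieKolchin.TrigDiag.charIdeal_le_span k N).trans (Ideal.span_le.mpr ?_))
          rintro _ ⟨g, rfl⟩
          simp [hg g]
        have hU := LieKolchin.TrigDiag.isUnipotent_quotient (Groth.Agent.S3308.result k N)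
        let π₀ : N →ₐc[k] N ⧸ LieKolchin.TrigDiag.charIdeal k N :=
          Bialgebra.Quotient.mkBialgHom (R := k) (LieKolchin.TrigDiag.charIdeal k N)
        have hinj : Function.Injective π₀ := fun a b h => by
          have h1 : a - b ∈ LieKolchin.TrigDiag.charIdeal k N := Ideal.Quotient.eq.mp h
          rw [hJ] at h1
          exact sub_eq_zero.mp h1
        haveI : (⊥ : Ideal (N ⧸ LieKolchin.TrigDiag.charIdeal k N)).IsHopfIdeal k := by
          have h := Comodule.isHopfIdeal_ker (BialgHom.id k (N ⧸ LieKolchin.TrigDiag.charIdeal k N))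
            Function.surjective_id
          convert! h using 1
        obtain ⟨y, hy0, hy⟩ := (Groth.Agent.S3264.result k _).mp hU ⊥ (fun hbot => htriv fun n => by
          refine ⟨Bialgebra.counitAlgHom k N n, hinj ?_⟩
          have hmem : π₀ n - algebraMap k _ (Bialgebra.counitAlgHom k N n) ∈
              RingHom.ker (Bialgebra.counitAlgHom k (N ⧸ LieKolchin.TrigDiag.charIdeal k N)) := by
            rw [RingHom.mem_ker, map_sub, AlgHom.commutes, sub_eq_zero]
            exact CoalgHomClass.counit_comp_apply π₀ n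
          rw [← hbot, Submodule.mem_bot, sub_eq_zero] at hmem
          rw [hmem]
          exact ((π₀ : N →ₐ[k] N ⧸ LieKolchin.TrigDiag.charIdeal k N).commutes _).symm)
        obtain ⟨z, rfl⟩ := Ideal.Quotient.mk_surjective y
        obtain ⟨n, rfl⟩ := Ideal.Quotient.mk_surjective z
        refine ⟨n, isStepElem_primitive ?_, fun h => hy0 (by rw [h]; simp)⟩
        let π₁ : N →ₐc[k] (N ⧸ LieKolchin.TrigDiag.charIdeal k N) ⧸ (⊥ : Ideal _) :=
          (Bialgebra.Quotient.mkBialgHom (R := k) ⊥).comp π₀
        have hinj₁ : Function.Injective π₁ := fun a b h => hinj (by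
          have h1 : π₀ a - π₀ b ∈ (⊥ : Ideal (N ⧸ LieKolchin.TrigDiag.charIdeal k N)) := Ideal.Quotient.eq.mp h
          exact sub_eq_zero.mp h1)
        have hmap : Function.Injective (TensorProduct.map π₁.toLinearMap π₁.toLinearMap) :=
          TensorProduct.map_injective_of_flat_flat _ _ hinj₁ hinj₁
        apply hmap
        refine (CoalgHomClass.map_comp_comul_apply π₁ n).trans (hy.trans ?_)
        rw [map_add, TensorProduct.map_tmul, TensorProduct.map_tmul]
        simp [π₁, π₀]
        rfl
      · obtain ⟨g, hg⟩ := not_forall.mp hg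
        exact ⟨(g : N) - 1, isStepElem_groupLike g.isGroupLikeElem_val, sub_ne_zero.mpr hg⟩

/-- The coordinate ring of a connected commutative affine group is a principal localisation of a polynomial ring. -/
theorem isCell [IsAlgClosed k] [Algebra.FiniteType k A] [Coalgebra.IsCocomm k A] [IsDomain A] : IsCell k A := by
  haveI : IsNoetherianRing A := Algebra.FiniteType.isNoetherianRing k A
  suffices key : ∀ (I : Ideal A) (N : Type u) [CommRing N] [HopfAlgebra k N] [IsDomain N] (π : A →ₐc[k] N),
      Function.Surjective π → RingHom.ker π = I → IsCell k N from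
    key _ A (BialgHom.id k A) Function.surjective_id rfl
  intro I
  induction I using WellFoundedGT.induction with
  | _ I ih =>
    intro N _ _ _ π hπ hI
    haveI : Coalgebra.IsCocomm k N := isCocomm_of_surjective π hπ
    haveI : Algebra.FiniteType k N := Algebra.FiniteType.of_surjective (π : A →ₐ[k] N) hπ
    by_cases htriv : ∀ n : N, ∃ r : k, n = algebraMap k N r
    · let e : k ≃ₐ[k] N := AlgEquiv.ofBijective (Algebra.ofId k N)
        ⟨(algebraMap k N).injective, fun n => by obtain ⟨r, hr⟩ := htriv n; exact ⟨r, hr.symm⟩⟩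
      exact ⟨0, _, soi_equiv ((MvPolynomial.isEmptyAlgEquiv k (Fin 0)).trans e)⟩
    obtain ⟨x, hx, hx0⟩ := exists_stepElem (k := k) htriv
    obtain ⟨B, hB, P, _, hP, hPne, hPB, hBfg, hdim⟩ := exists_step hx hx0
    haveI := hP
    letI := HopfPts.subHopfAlgebra hB
    haveI : Algebra.FiniteType k B := (Subalgebra.fg_iff_finiteType B).1 hBfg
    let ψ : B →ₐc[k] N := subVal hB
    have hψ : Function.Injective ψ := Subtype.val_injective
    let πP : N →ₐc[k] N ⧸ P := Bialgebra.Quotient.mkBialgHom (R := k) P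
    have hker : ∀ a, πP a = 0 → a ∈ Ideal.map (ψ : B →+* N) (RingHom.ker (Bialgebra.counitAlgHom k B)) := by
      intro a ha
      have ha' : a ∈ P := Ideal.Quotient.eq_zero_iff_mem.mp ha
      rw [hPB] at ha'
      refine (Ideal.span_le.mpr ?_ : SGA3.augIdealSpan k N B ≤ _) ha'
      rintro b ⟨hb, hb0⟩
      exact Ideal.mem_map_of_mem (ψ : B →+* N) (show (⟨b, hb⟩ : B) ∈ RingHom.ker (Bialgebra.counitAlgHom k B) from hb0)
    have hπψ : ∀ c, πP (ψ c) = algebraMap k (N ⧸ P) (Bialgebra.counitAlgHom k B c) := by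
      intro c
      have hmem : (c : N) - algebraMap k N (Bialgebra.counitAlgHom k N (c : N)) ∈ P := by
        rw [hPB]
        exact Ideal.subset_span ⟨sub_mem c.2 (B.algebraMap_mem _), by simp⟩
      exact Ideal.Quotient.eq.mpr hmem
    let π' : A →ₐc[k] N ⧸ P := πP.comp π
    have hlt : I < RingHom.ker π' := by
      have hle : I ≤ RingHom.ker π' := fun a ha => by
        rw [← hI] at ha
        show Ideal.Quotient.mk P (π a) = 0
        rw [RingHom.mem_ker.mp ha, map_zero]
      refine hle.lt_of_ne fun he => hPne (le_bot_iff.mp fun n hn => ?_)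
      obtain ⟨a, rfl⟩ := hπ n
      have hmem : a ∈ RingHom.ker π' := Ideal.Quotient.eq_zero_iff_mem.mpr hn
      rw [← he, ← hI] at hmem
      exact hmem
    have hcell := ih _ hlt (N ⧸ P) π' (Ideal.Quotient.mk_surjective.comp hπ) rfl
    haveI : Coalgebra.IsCocomm k (N ⧸ P) := isCocomm_of_surjective πP Ideal.Quotient.mk_surjective
    haveI : Algebra.FiniteType k (N ⧸ P) := Algebra.FiniteType.of_surjective (πP : N →ₐ[k] N ⧸ P) Ideal.Quotient.mk_surjective
    have hsplit := (Comm.main (k := k) (A := N ⧸ P)).1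
    have hconn : ∀ e : B, IsIdempotentElem e → e = 0 ∨ e = 1 := fun e he => IsIdempotentElem.iff_eq_zero_or_one.mp he
    have hBu : UniqueFactorizationMonoid B ∧ IsCell k B := by
      rcases Groth.Agent.S7976.result k B hconn hdim with ⟨⟨e⟩⟩ | ⟨⟨e⟩⟩
      · let eL : B ≃ₐ[k] AddMonoidAlgebra k ℤ :=
          (e : B ≃ₐ[k] MonoidAlgebra k (Multiplicative ℤ)).trans
            ((MonoidAlgebra.toAdditiveAlgEquiv k k (Multiplicative ℤ)).trans
              (AddMonoidAlgebra.domCongr k k (AddEquiv.additiveMultiplicative ℤ)))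
        haveI : UniqueFactorizationMonoid (LaurentPolynomial k) :=
          UniqueFactorizationMonoid.of_isLocalization (Submonoid.powers (Polynomial.X : Polynomial k)) _
        haveI : UniqueFactorizationMonoid (AddMonoidAlgebra k ℤ) := ‹UniqueFactorizationMonoid (LaurentPolynomial k)›
        exact ⟨ufm_of_algEquiv eL.symm, isCell_addMonoidAlgebra.of_algEquiv eL.symm⟩
      · let eX : B ≃ₐ[k] Polynomial k :=
          (e : B ≃ₐ[k] SymmetricAlgebra k k).trans
            ((SymmetricAlgebra.equivMvPolynomial (Module.Basis.singleton PUnit.{1} k)).trans (MvPolynomial.uniqueAlgEquiv k PUnit.{1}))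
        exact ⟨ufm_of_algEquiv eX.symm, isCell_polynomial.of_algEquiv eX.symm⟩
    haveI := hBu.1
    haveI : Subsingleton (CommRing.Pic B) := inferInstance
    obtain ⟨E⟩ := exists_algEquiv_tensor ψ hψ πP Ideal.Quotient.mk_surjective hker hπψ (hsplit B)
    exact (hBu.2.tensor hcell).of_algEquiv E.symm

end Groth.Agent.PicProdGrp
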