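import Groth.Agent.PicProdGrpLib.Cell
import Groth.Agent.SpecialGLLib.CommSpecial
import Groth.Agent.S7819
import Groth.Agent.S7517
import Groth.Agent.S0348
import Groth.Agent.AVLib.GeomInt
import Groth.Agent.GeomIrred.Scheme
import Groth.Agent.CurveLib.GlobalFun
import Groth.Agent.RegLocal.UFD
import Groth.Agent.PicCurveSmoothLib.BaseChange

/-!
# Invertible modules on a product of groups over an algebraically closed field
-/

set_option autoImplicit false
set_option maxHeartbeats 1000000
set_option linter.style.haveILetI false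
set_option backward.isDefEq.respectTransparency false
set_option backward.isDefEq.respectTransparency.types false

universe u

open CategoryTheory CategoryTheory.Limits MonoidalCategory CartesianMonoidalCategory MonObj AlgebraicGeometry

noncomputable section

namespace Groth.Agent.PicProdGrp

open Groth.Agent.PicCurveSmoothLib (pullCl_pullCl pullCl_id isInvertibleCl_pullCl)

variable {k : Type u} [Field k] (G : Over (Spec (CommRingCat.of k))) [GrpObj G]

theorem geometricallyIntegral_grp [Smooth G.hom] [ConnectedSpace G.left] : GeometricallyIntegral G.hom := by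
  haveI : IrreducibleSpace G.left := Groth.Agent.S0348.result k G
  haveI : GeometricallyIrreducible G.hom := by
    have h := Groth.Agent.S7517.result k G G.left (𝟙 _)
      (by simp [irreducibleComponents_eq_singleton]) ⟨_, rfl⟩
    rwa [Category.id_comp] at h
  haveI : GeometricallyConnected G.hom := GeomIrred.geometricallyConnected_of_geometricallyIrreducible G.hom
  exact AVLib.geometricallyIntegral_of_smooth G

theorem isIntegral_grp [Smooth G.hom] [ConnectedSpace G.left] : IsIntegral G.left := by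
  haveI := geometricallyIntegral_grp G
  haveI : Subsingleton ↥(Spec (CommRingCat.of k)) := inferInstanceAs (Subsingleton (PrimeSpectrum k))
  exact GeometricallyIntegral.isIntegral_of_subsingleton G.hom

theorem isNormalScheme_of_smooth {X : Scheme.{u}} (f : X ⟶ Spec (CommRingCat.of k)) [Smooth f] :
    Pi1.IsNormalScheme X := by
  letI : X.Over (Spec (CommRingCat.of k)) := ⟨f⟩
  haveI : Smooth (X ↘ Spec (CommRingCat.of k)) := ‹Smooth f›
  intro x
  haveI := CurveLib.isRegularLocalRing_stalk_of_smooth (k := k) (X := X) x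
  haveI : IsDomain (X.presheaf.stalk x) := RegLocal.isDomain _
  haveI := RegLocal.ufd (X.presheaf.stalk x)
  exact ⟨inferInstance, inferInstance⟩

variable {G}

/-- The triviality of invertible modules on a product. -/
theorem isTrivialCl_closed [IsAlgClosed k] {P Q : Over (Spec (CommRingCat.of k))} [GrpObj P] [GrpObj Q]
    [IsCommMonObj P] [IsAffine P.left] [Smooth P.hom] [ConnectedSpace P.left]
    [Smooth Q.hom] [QuasiCompact Q.hom] [ConnectedSpace Q.left]
    (eP : 𝟙_ (Over (Spec (CommRingCat.of k))) ⟶ P)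
    (c : PicF.Cl (P ⊗ Q).left) (hc : PicF.IsInvertibleCl c)
    (hQ : PicF.IsTrivialCl (PicF.pullCl (lift (toUnit Q ≫ eP) (𝟙 Q)).left c)) :
    PicF.IsTrivialCl c := by
  obtain ⟨A, _, _, e, _, _, _, _⟩ := SpecialGL.exists_hopf_comm P
  obtain ⟨n, g, hg⟩ := isCell (k := k) (A := A)
  let S := Spec (CommRingCat.of k)
  let n' := ULift.{u} (Fin n)
  let r : MvPolynomial n' k →ₐ[k] MvPolynomial (Fin n) k := (MvPolynomial.renameEquiv k Equiv.ulift).toAlgHom
  have hgr : (g.comp r).toRingHom.IsStandardOpenImmersion := soi_comp (soi_equiv _) hg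
  haveI : IsOpenImmersion (Spec.map (CommRingCat.ofHom (g.comp r).toRingHom)) := by
    letI := (g.comp r).toRingHom.toAlgebra
    obtain ⟨f, hf⟩ := hgr.toAlgebra.exists_away
    exact IsOpenImmersion.of_isLocalization f
  let j : P.left ⟶ 𝔸(n'; S) := e.inv.left ≫ Spec.map (CommRingCat.ofHom (g.comp r).toRingHom) ≫
    (AffineSpace.SpecIso n' (CommRingCat.of k)).inv
  haveI : IsOpenImmersion j := inferInstance
  have hj : j ≫ (𝔸(n'; S) ↘ S) = P.hom := by
    have h : (g.comp r).toRingHom.comp MvPolynomial.C = algebraMap k A := by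
      rw [← MvPolynomial.algebraMap_eq]
      exact (g.comp r).comp_algebraMap
    have h' : Spec.map (CommRingCat.ofHom (g.comp r).toRingHom) ≫ (AffineSpace.SpecIso n' (CommRingCat.of k)).inv ≫
        (𝔸(n'; S) ↘ S) = Spec.map (CommRingCat.ofHom (algebraMap k A)) := by
      rw [AffineSpace.SpecIso_inv_over, ← Spec.map_comp, ← CommRingCat.ofHom_comp, h]
    show (e.inv.left ≫ Spec.map (CommRingCat.ofHom (g.comp r).toRingHom) ≫ (AffineSpace.SpecIso n' (CommRingCat.of k)).inv) ≫ (𝔸(n'; S) ↘ S) = P.hom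
    refine (Category.assoc _ _ _).trans (Eq.trans ?_ (Over.w e.inv))
    exact congrArg (e.inv.left ≫ ·) ((Category.assoc _ _ _).trans h')
  let U := j.opensRange
  let ε : P.left ≅ (U : Scheme.{u}) := j.isoOpensRange
  have hε : ε.hom ≫ U.ι ≫ (𝔸(n'; S) ↘ S) = P.hom := by
    rw [← Category.assoc, show ε.hom ≫ U.ι = j from Scheme.Hom.isoOpensRange_hom_ι j]
    exact hj
  let u : S ⟶ (U : Scheme.{u}) := eP.left ≫ ε.hom
  have hu : u ≫ U.ι ≫ (𝔸(n'; S) ↘ S) = 𝟙 S := by
    simp only [u, Category.assoc, hε]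
    exact Over.w eP
  haveI : IsIntegral Q.left := isIntegral_grp Q
  haveI : IsLocallyNoetherian S := inferInstance
  haveI : IsLocallyNoetherian Q.left := LocallyOfFiniteType.isLocallyNoetherian Q.hom
  haveI : CompactSpace Q.left := QuasiCompact.compactSpace_of_compactSpace Q.hom
  haveI : IsNoetherian Q.left := {}
  let h := U.ι ≫ (𝔸(n'; S) ↘ S)
  let Φ : pullback Q.hom h ⟶ (P ⊗ Q).left :=
    pullback.lift (pullback.snd _ _ ≫ ε.inv) (pullback.fst _ _) (by
      rw [Category.assoc, ← hε, Iso.inv_hom_id_assoc, pullback.condition])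
  let Ψ : (P ⊗ Q).left ⟶ pullback Q.hom h :=
    pullback.lift (pullback.snd P.hom Q.hom) (pullback.fst P.hom Q.hom ≫ ε.hom) (by
      simp only [h, Category.assoc, hε]
      exact pullback.condition.symm)
  have hΨΦ : Ψ ≫ Φ = 𝟙 _ := by
    apply pullback.hom_ext <;> simp [Ψ, Φ]
  obtain ⟨d, ⟨hd, hdc⟩, -⟩ := Groth.Agent.S7819.result S n U u hu Q.hom (isNormalScheme_of_smooth Q.hom)
    (PicF.pullCl Φ c) (isInvertibleCl_pullCl Φ hc)
  have hcd : c = PicF.pullCl (pullback.snd P.hom Q.hom) d := by
    have h1 := congrArg (PicF.pullCl Ψ) hdc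
    rw [pullCl_pullCl, pullCl_pullCl, hΨΦ, pullCl_id] at h1
    rw [← h1]
    congr 1
    exact pullback.lift_fst _ _ _
  have hd' : PicF.IsTrivialCl d := by
    have h2 := hQ
    rw [hcd, pullCl_pullCl] at h2
    have h3 : (lift (toUnit Q ≫ eP) (𝟙 Q)).left ≫ pullback.snd P.hom Q.hom = 𝟙 Q.left :=
      congrArg CommaMorphism.left (lift_snd (toUnit Q ≫ eP) (𝟙 Q))
    rwa [h3, pullCl_id] at h2
  rw [hcd, show d = _ from hd']
  exact Quot.sound ⟨PicLoc.pullbackStructureIso _⟩

end Groth.Agent.PicProdGrp
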