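import Groth.Agent.InvDescLib.Trivial
import Groth.Agent.InvDescLib.Frames

/-!
# The comparison function of a trivialisation on a covering, along an axis
-/

set_option autoImplicit false
set_option backward.isDefEq.respectTransparency false
set_option linter.style.haveILetI false

universe u

open CategoryTheory CategoryTheory.Limits AlgebraicGeometry TopologicalSpace
open Groth.Agent.SchDesc Groth.Agent.ParaFLib Groth.Agent.PullbackMod Groth.Agent.InvDescLib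

noncomputable section

namespace Groth.Agent.PicProdGrp

variable {X' X : Scheme.{u}} (g : X' ⟶ X) {L : X.Modules}

/-- The change of coefficients along a given transition function. -/
theorem coef_change_given (hL : PicF.IsInvertible L) {W W' O : X.Opens} (hWO : W ≤ O) (hWO' : W' ≤ O) {t : Γ(L, W)}
    (ht : Gen W t) {t' : Γ(L, W')} {c : Γ(X, W ⊓ W')}
    (hc : c • L.presheaf.map (homOfLE (inf_le_left : W ⊓ W' ≤ W)).op t =
      L.presheaf.map (homOfLE (inf_le_right : W ⊓ W' ≤ W')).op t')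
    {σ : Γ((Scheme.Modules.pullback g).obj L, g ⁻¹ᵁ O)}
    {r : Γ(X', g ⁻¹ᵁ W)} (hr : IsCoef g hWO t σ r) {r' : Γ(X', g ⁻¹ᵁ W')} (hr' : IsCoef g hWO' t' σ r') :
    X'.presheaf.map (homOfLE (g.preimage_mono (inf_le_left : W ⊓ W' ≤ W))).op r =
      X'.presheaf.map (homOfLE (g.preimage_mono (inf_le_right : W ⊓ W' ≤ W'))).op r' * g.app (W ⊓ W') c := by
  let N := (Scheme.Modules.pullback g).obj L
  have h1 : W ⊓ W' ≤ W := inf_le_left
  have h2 : W ⊓ W' ≤ W' := inf_le_right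
  refine gen_inj ((AmpleEmb.gen_pullMap g hL ht).res (g.preimage_mono h1)) ?_
  rw [mul_smul, pullMap_smul_res g h1 hc, ← pullMap_res g L le_rfl h2 (g.preimage_mono h2) le_rfl t']
  rw [← N.map_smul, ← N.map_smul, hr, hr']
  exact (ParaFLib.res_res _ _ _).trans (ParaFLib.res_res _ _ _).symm

variable {g}

/-- The comparison function is a coboundary along a morphism on which the module is trivial. -/
theorem exists_axis_unit (hL : PicF.IsInvertible L) {σ : Γ((Scheme.Modules.pullback g).obj L, g ⁻¹ᵁ ⊤)}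
    (hσ : Gen (g ⁻¹ᵁ ⊤) σ) {v : Γ(pullback g g, ⊤)}
    (hv : ∀ (W : X.Opens) (t : Γ(L, W)) (_ : Gen W t) (r : Γ(X', g ⁻¹ᵁ W)) (_ : IsCoef g le_top t σ r)
      (T : Scheme.{u}) (a b : T ⟶ X') (ea : ∀ s, a s ∈ g ⁻¹ᵁ W) (eb : ∀ s, b s ∈ g ⁻¹ᵁ W) (w : a ≫ g = b ≫ g),
      val2 g v a b w * ev a ea r = ev b eb r)
    {Z Z' : Scheme.{u}} (i : Z ⟶ X) (hi : CubeLib.Triv ((Scheme.Modules.pullback i).obj L))
    (a : Z' ⟶ X') (b : Z' ⟶ Z) (w : a ≫ g = b ≫ i) :
    ∃ C : Γ(Z', ⊤), IsUnit C ∧ ∀ (T : Scheme.{u}) (p q : T ⟶ Z') (_ : p ≫ b = q ≫ b)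
      (w' : (p ≫ a) ≫ g = (q ≫ a) ≫ g), val2 g v (p ≫ a) (q ≫ a) w' * p.appTop C = q.appTop C := by
  obtain ⟨s, hs⟩ := hi
  choose W t hx ht using fun x => exists_gen_nhd hL x
  choose r hr hru using fun x => exists_coef g hL (le_top : W x ≤ ⊤) (ht x) hσ
  choose c hc hcu using fun x => exists_coef i hL (le_top : W x ≤ ⊤) (ht x) (O := ⊤) (σ := s) hs
  let O : X → Z'.Opens := fun x => (b ≫ i) ⁻¹ᵁ W x
  have hO : iSup O = ⊤ := eq_top_iff.2 fun z _ => Opens.mem_iSup.2 ⟨(b ≫ i) z, hx _⟩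
  -- the two coefficients at a point over a member of the covering
  have mema : ∀ (x : X) {T : Scheme.{u}} (m : T ⟶ Z') (_ : ∀ z, m z ∈ O x) (z : T), (m ≫ a) z ∈ g ⁻¹ᵁ W x :=
    fun x T m hm z => by
      show g (a (m z)) ∈ W x
      rw [← Scheme.Hom.comp_apply a g, w]
      exact hm z
  have memb : ∀ (x : X) {T : Scheme.{u}} (m : T ⟶ Z') (_ : ∀ z, m z ∈ O x) (z : T), (m ≫ b) z ∈ i ⁻¹ᵁ W x :=
    fun x T m hm z => hm z
  let R : ∀ (x : X) {T : Scheme.{u}} (m : T ⟶ Z') (_ : ∀ z, m z ∈ O x), Γ(T, ⊤) :=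
    fun x T m hm => ev (m ≫ a) (mema x m hm) (r x)
  let K : ∀ (x : X) {T : Scheme.{u}} (m : T ⟶ Z') (_ : ∀ z, m z ∈ O x), Γ(T, ⊤) :=
    fun x T m hm => ev (m ≫ b) (memb x m hm) (c x)
  have hRu : ∀ (x : X) {T : Scheme.{u}} (m : T ⟶ Z') (hm : ∀ z, m z ∈ O x), IsUnit (R x m hm) :=
    fun x T m hm => (hru x).map _
  have hKu : ∀ (x : X) {T : Scheme.{u}} (m : T ⟶ Z') (hm : ∀ z, m z ∈ O x), IsUnit (K x m hm) :=
    fun x T m hm => (hcu x).map _
  have hRn : ∀ (x : X) {T T' : Scheme.{u}} (n : T' ⟶ T) (m : T ⟶ Z') (hm : ∀ z, m z ∈ O x)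
      (m' : T' ⟶ Z') (hm' : ∀ z, m' z ∈ O x), n ≫ m = m' → n.appTop (R x m hm) = R x m' hm' := by
    intro x T T' n m hm m' hm' e
    subst e
    show n.appTop (ev _ _ _) = ev _ _ _
    rw [← ev_comp n (m ≫ a) (mema x m hm) (fun z => mema x m hm _)]
    exact ev_congr (Category.assoc _ _ _).symm _ _ _
  have hKn : ∀ (x : X) {T T' : Scheme.{u}} (n : T' ⟶ T) (m : T ⟶ Z') (hm : ∀ z, m z ∈ O x)
      (m' : T' ⟶ Z') (hm' : ∀ z, m' z ∈ O x), n ≫ m = m' → n.appTop (K x m hm) = K x m' hm' := by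
    intro x T T' n m hm m' hm' e
    subst e
    show n.appTop (ev _ _ _) = ev _ _ _
    rw [← ev_comp n (m ≫ b) (memb x m hm) (fun z => memb x m hm _)]
    exact ev_congr (Category.assoc _ _ _).symm _ _ _
  have cross : ∀ (x y : X) {T : Scheme.{u}} (m : T ⟶ Z') (hm : ∀ z, m z ∈ O x) (hm' : ∀ z, m z ∈ O y),
      R x m hm * K y m hm' = R y m hm' * K x m hm := by
    intro x y T m hm hm'
    obtain ⟨d, hd, -⟩ : ∃ d : Γ(X, W x ⊓ W y), d • L.presheaf.map (homOfLE (inf_le_left : W x ⊓ W y ≤ W x)).op (t x) =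
        L.presheaf.map (homOfLE (inf_le_right : W x ⊓ W y ≤ W y)).op (t y) ∧ IsUnit d := by
      obtain ⟨d, hd, hd'⟩ := ((ht y).res (inf_le_right : W x ⊓ W y ≤ W y)).exists_unit
        ((ht x).res (inf_le_left : W x ⊓ W y ≤ W x))
      exact ⟨d, hd', hd⟩
    have h1 := ev_coef_change g (coef_change_given g hL le_top le_top (ht x) hd (hr x) (hr y)) (m ≫ a)
      (mema x m hm) (mema y m hm')
    have h2 := ev_coef_change i (coef_change_given i hL le_top le_top (ht x) hd (hc x) (hc y)) (m ≫ b)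
      (memb x m hm) (memb y m hm')
    show ev _ _ _ * ev _ _ _ = ev _ _ _ * ev _ _ _
    rw [h1, h2, ev_congr (show (m ≫ a) ≫ g = (m ≫ b) ≫ i by rw [Category.assoc, w, Category.assoc]) _
      (fun z => (⟨memb x m hm z, memb y m hm' z⟩ : ((m ≫ b) ≫ i) z ∈ W x ⊓ W y)) d]
    ring
  have hι : ∀ x (z : (O x : Scheme.{u})), (O x).ι z ∈ O x := fun x z => z.2
  let zf : ∀ x, Γ((O x : Scheme.{u}), ⊤) := fun x => R x (O x).ι (hι x) * ↑(hKu x (O x).ι (hι x)).unit⁻¹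
  let zg : ∀ x, Γ((O x : Scheme.{u}), ⊤) := fun x => K x (O x).ι (hι x) * ↑(hRu x (O x).ι (hι x)).unit⁻¹
  have hzf : ∀ x, zf x * K x (O x).ι (hι x) = R x (O x).ι (hι x) := fun x => by
    simp only [zf, mul_assoc, IsUnit.val_inv_mul, _root_.mul_one]
  have hzg : ∀ x, zg x * R x (O x).ι (hι x) = K x (O x).ι (hι x) := fun x => by
    simp only [zg, mul_assoc, IsUnit.val_inv_mul, _root_.mul_one]
  have agree : ∀ i' j (T' : Scheme.{u}) (p : T' ⟶ O i') (q : T' ⟶ O j), p ≫ (O i').ι = q ≫ (O j).ι →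
      p.appTop (zf i') = q.appTop (zf j) ∧ p.appTop (zg i') = q.appTop (zg j) := by
    intro x y T p q e
    have ex : ∀ z, (p ≫ (O x).ι) z ∈ O x := fun z => (p z).2
    have ey : ∀ z, (p ≫ (O x).ι) z ∈ O y := fun z => by rw [e]; exact (q z).2
    have f1 := congrArg p.appTop (hzf x)
    have f2 := congrArg q.appTop (hzf y)
    have g1 := congrArg p.appTop (hzg x)
    have g2 := congrArg q.appTop (hzg y)
    rw [map_mul, hKn x p _ (hι x) _ ex rfl, hRn x p _ (hι x) _ ex rfl] at f1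
    rw [map_mul, hKn y q _ (hι y) _ ey e.symm, hRn y q _ (hι y) _ ey e.symm] at f2
    rw [map_mul, hKn x p _ (hι x) _ ex rfl, hRn x p _ (hι x) _ ex rfl] at g1
    rw [map_mul, hKn y q _ (hι y) _ ey e.symm, hRn y q _ (hι y) _ ey e.symm] at g2
    have hx' := cross x y _ ex ey
    constructor
    · refine ((hKu x _ ex).mul (hKu y _ ey)).mul_right_cancel ?_
      rw [← mul_assoc, f1, hx', mul_comm (K x _ ex), ← mul_assoc, f2]
    · refine ((hRu x _ ex).mul (hRu y _ ey)).mul_right_cancel ?_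
      rw [← mul_assoc, g1, mul_comm (K x _ ex), ← hx', ← g2]
      ring
  obtain ⟨C, hC⟩ := exists_glue_points O hO zf fun i' j T' p q e => (agree i' j T' p q e).1
  obtain ⟨D, hD⟩ := exists_glue_points O hO zg fun i' j T' p q e => (agree i' j T' p q e).2
  refine ⟨C, IsUnit.of_mul_eq_one D ?_, ?_⟩
  · refine eq_of_forall_restrict O hO fun x => ?_
    rw [map_mul, map_one, hC, hD]
    refine (hRu x _ (hι x)).mul_right_cancel ?_
    rw [mul_assoc, hzg, hzf, _root_.one_mul]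
  -- the value of the glued function at a point
  have point : ∀ (x : X) {T : Scheme.{u}} (m : T ⟶ Z') (hm : ∀ z, m z ∈ O x),
      m.appTop C * K x m hm = R x m hm := by
    intro x T m hm
    let m' : T ⟶ (O x : Scheme.{u}) := IsOpenImmersion.lift (O x).ι m (by
      rintro _ ⟨z, rfl⟩; rw [Scheme.Opens.range_ι]; exact hm z)
    have hm' : m' ≫ (O x).ι = m := IsOpenImmersion.lift_fac _ _ _
    have h1 := congrArg m'.appTop (hzf x)
    rw [map_mul, hKn x m' _ (hι x) m hm hm', hRn x m' _ (hι x) m hm hm', ← hC x] at h1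
    rw [← h1]
    congr 1
    rw [← CommRingCat.comp_apply, ← Scheme.Hom.comp_appTop, hm']
  intro T p q hpq w'
  let O' : X → T.Opens := fun x => ((p ≫ b) ≫ i) ⁻¹ᵁ W x
  refine eq_of_forall_restrict O' (eq_top_iff.2 fun z _ => Opens.mem_iSup.2 ⟨_, hx _⟩) fun x => ?_
  let p' := (O' x).ι ≫ p
  let q' := (O' x).ι ≫ q
  have ep : ∀ z, p' z ∈ O x := fun z => z.2
  have eq' : ∀ z, q' z ∈ O x := fun z => by
    show ((q ≫ b) ≫ i) ((O' x).ι z) ∈ W x
    rw [← hpq]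
    exact z.2
  have wab : (p' ≫ a) ≫ g = (q' ≫ a) ≫ g := by
    simp only [p', q', Category.assoc] at w' ⊢
    rw [w']
  have h1 := hv (W x) (t x) (ht x) (r x) (hr x) _ (p' ≫ a) (q' ≫ a) (mema x p' ep) (mema x q' eq') wab
  have h2 : K x p' ep = K x q' eq' := ev_congr (by simp only [p', q', Category.assoc, hpq]) _ _ _
  rw [map_mul, val2_comp g v (O' x).ι (p ≫ a) (q ≫ a) w' (p' ≫ a) (q' ≫ a) (Category.assoc _ _ _).symm
    (Category.assoc _ _ _).symm wab, ← CommRingCat.comp_apply, ← Scheme.Hom.comp_appTop,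
    ← CommRingCat.comp_apply, ← Scheme.Hom.comp_appTop]
  refine (hKu x p' ep).mul_right_cancel ?_
  rw [mul_assoc, point x p' ep, h2, point x q' eq']
  exact h1

variable (g)

/-- A trivialisation whose comparison function is a coboundary can be corrected to one which descends. -/
theorem triv_of_coboundary [IsFpqc g] (hL : PicF.IsInvertible L)
    {σ : Γ((Scheme.Modules.pullback g).obj L, g ⁻¹ᵁ ⊤)} (hσ : Gen (g ⁻¹ᵁ ⊤) σ) {v : Γ(pullback g g, ⊤)}
    (hv : ∀ (W : X.Opens) (t : Γ(L, W)) (_ : Gen W t) (r : Γ(X', g ⁻¹ᵁ W)) (_ : IsCoef g le_top t σ r)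
      (T : Scheme.{u}) (a b : T ⟶ X') (ea : ∀ s, a s ∈ g ⁻¹ᵁ W) (eb : ∀ s, b s ∈ g ⁻¹ᵁ W) (w : a ≫ g = b ≫ g),
      val2 g v a b w * ev a ea r = ev b eb r)
    {C : Γ(X', ⊤)} (hC : IsUnit C)
    (h : ∀ (T : Scheme.{u}) (a b : T ⟶ X') (w : a ≫ g = b ≫ g), val2 g v a b w * a.appTop C = b.appTop C) :
    CubeLib.Triv L := by
  obtain ⟨K, hK⟩ := hC.exists_right_inv
  let N := (Scheme.Modules.pullback g).obj L
  let σ' : Γ(N, g ⁻¹ᵁ ⊤) := (show Γ(X', g ⁻¹ᵁ ⊤) from K) • σ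
  have hKu : IsUnit K := IsUnit.of_mul_eq_one C (by rw [mul_comm, hK])
  have hσ' : Gen (g ⁻¹ᵁ ⊤) σ' := hσ.smul hKu
  obtain ⟨s, hs⟩ := exists_gen_of_compat g hL hσ' fun W hWO t ht r hr T a b ea eb w => by
    obtain ⟨r₀, hr₀, -⟩ := exists_coef g hL (le_top : W ≤ ⊤) ht hσ
    have hrr : r = resPre g hWO (show Γ(X', g ⁻¹ᵁ ⊤) from K) * r₀ := by
      refine gen_inj (AmpleEmb.gen_pullMap g hL ht) ?_
      rw [mul_smul, hr₀, hr]
      exact N.map_smul _ _ _
    have hKev : ∀ (c : T ⟶ X') (ec : ∀ s, c s ∈ g ⁻¹ᵁ W),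
        ev c ec (resPre g hWO (show Γ(X', g ⁻¹ᵁ ⊤) from K)) = c.appTop K := fun c ec => by
      rw [resPre, ev_res]
      exact ev_top c (fun _ => trivial) K
    have h1 := hv W t ht r₀ hr₀ T a b ea eb w
    have hone : ∀ c : T ⟶ X', c.appTop C * c.appTop K = 1 := fun c => by rw [← map_mul, hK, map_one]
    rw [hrr, map_mul, map_mul, hKev, hKev, ← h1, ← mul_assoc]
    congr 1
    refine ((hC.map a.appTop.hom).mul (hC.map b.appTop.hom)).mul_left_cancel ?_
    calc a.appTop C * b.appTop C * a.appTop K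
        = b.appTop C := by rw [mul_comm (a.appTop C), mul_assoc, hone, _root_.mul_one]
      _ = val2 g v a b w * a.appTop C := (h T a b w).symm
      _ = a.appTop C * b.appTop C * (b.appTop K * val2 g v a b w) := by
        rw [mul_assoc, ← mul_assoc (b.appTop C), hone, _root_.one_mul, mul_comm]
  exact ⟨s, hs⟩

end Groth.Agent.PicProdGrp
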