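import Groth.Agent.S16117
import Groth.Agent.GrpSchLib.Component

/-!
# Units on a product which are one on the axes
-/

set_option autoImplicit false
set_option linter.style.haveILetI false
set_option backward.isDefEq.respectTransparency false
set_option backward.isDefEq.respectTransparency.types false

universe u

open CategoryTheory CategoryTheory.Limits MonoidalCategory CartesianMonoidalCategory MonObj AlgebraicGeometry

noncomputable section

namespace Groth.Agent.PicProdGrp

variable {k : Type u} [Field k]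

theorem appTop_comp_apply {X Y Z : Scheme.{u}} (f : X ⟶ Y) (g : Y ⟶ Z) (r : Γ(Z, ⊤)) :
    f.appTop (g.appTop r) = (f ≫ g).appTop r :=
  (congrArg (fun φ => (φ : Γ(Z, ⊤) ⟶ Γ(X, ⊤)) r) (Scheme.Hom.comp_appTop f g)).symm

theorem appTop_id_apply {X : Scheme.{u}} (r : Γ(X, ⊤)) : (𝟙 X : X ⟶ X).appTop r = r := by
  simp

/-- A unit on a product of varieties which is one on both axes is one. -/
theorem unit_eq_one [IsAlgClosed k] {X Y : Over (Spec (CommRingCat.of k))} [IsIntegral X.left] [IsSeparated X.hom]
    [LocallyOfFiniteType X.hom] [QuasiCompact X.hom] [IsIntegral Y.left] [IsSeparated Y.hom]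
    [LocallyOfFiniteType Y.hom] [QuasiCompact Y.hom]
    (eX : 𝟙_ (Over (Spec (CommRingCat.of k))) ⟶ X) (eY : 𝟙_ (Over (Spec (CommRingCat.of k))) ⟶ Y)
    (f : Γ((X ⊗ Y).left, ⊤)) (hf : IsUnit f)
    (hX : (lift (𝟙 X) (toUnit X ≫ eY)).left.appTop f = 1) (hY : (lift (toUnit Y ≫ eX) (𝟙 Y)).left.appTop f = 1) :
    f = 1 := by
  obtain ⟨g, h, -, -, rfl⟩ := Groth.Agent.S16117.result k X Y f hf
  have key : ∀ {T : Over (Spec (CommRingCat.of k))} (a : T ⟶ X) (b : T ⟶ Y),
      (lift a b).left.appTop ((fst X Y).left.appTop g * (snd X Y).left.appTop h) = a.left.appTop g * b.left.appTop h := by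
    intro T a b
    rw [map_mul, appTop_comp_apply, appTop_comp_apply]
    congr 1
    · exact congrArg (fun φ => (Scheme.Hom.appTop φ) g) (congrArg CommaMorphism.left (lift_fst a b))
    · exact congrArg (fun φ => (Scheme.Hom.appTop φ) h) (congrArg CommaMorphism.left (lift_snd a b))
  rw [key] at hX hY
  let g₀ := eX.left.appTop g
  let h₀ := eY.left.appTop h
  have eX1 : g * X.hom.appTop h₀ = 1 := by
    rw [← hX]
    exact congrArg₂ (· * ·) (appTop_id_apply g).symm (appTop_comp_apply X.hom eY.left h)
  have eY1 : Y.hom.appTop g₀ * h = 1 := by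
    rw [← hY]
    exact congrArg₂ (· * ·) (appTop_comp_apply Y.hom eX.left g) (appTop_id_apply h).symm
  let p := (fst X Y).left
  let q := (snd X Y).left
  have hgh : g₀ * h₀ = 1 := by
    have h1 := congrArg eX.left.appTop eX1
    rw [map_mul, map_one, appTop_comp_apply] at h1
    have h2 : eX.left ≫ X.hom = 𝟙 _ := Over.w eX
    rw [h2] at h1
    exact (congrArg (g₀ * ·) (appTop_id_apply h₀)).symm.trans h1
  let π := (X ⊗ Y).hom
  have hp : ∀ r, p.appTop (X.hom.appTop r) = π.appTop r := fun r => by
    rw [appTop_comp_apply]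
    exact congrArg (fun φ => (Scheme.Hom.appTop φ) r) (Over.w (fst X Y))
  have hq : ∀ r, q.appTop (Y.hom.appTop r) = π.appTop r := fun r => by
    rw [appTop_comp_apply]
    exact congrArg (fun φ => (Scheme.Hom.appTop φ) r) (Over.w (snd X Y))
  have h1 := congrArg p.appTop eX1
  have h2 := congrArg q.appTop eY1
  rw [map_mul, map_one, hp] at h1
  rw [map_mul, map_one, hq] at h2
  calc p.appTop g * q.appTop h
      = p.appTop g * q.appTop h * π.appTop (g₀ * h₀) := by rw [hgh, map_one, _root_.mul_one]
    _ = (p.appTop g * π.appTop h₀) * (π.appTop g₀ * q.appTop h) := by rw [map_mul]; ring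
    _ = 1 := by rw [h1, h2, _root_.mul_one]

end Groth.Agent.PicProdGrp
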