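import Groth.Agent.PicProdGrpLib.Closed
import Groth.Agent.PicProdGrpLib.Units
import Groth.Agent.PicProdGrpLib.Desc
import Groth.Agent.FinGrpdLib.Perfect

/-!
# Descent from the algebraic closure
-/

set_option autoImplicit false
set_option maxHeartbeats 1000000
set_option linter.style.haveILetI false
set_option backward.isDefEq.respectTransparency false
set_option backward.isDefEq.respectTransparency.types false

universe u

open CategoryTheory CategoryTheory.Limits MonoidalCategory CartesianMonoidalCategory MonObj AlgebraicGeometry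
open Groth.Agent.SchDesc Groth.Agent.InvDescLib

noncomputable section

namespace Groth.Agent.PicProdGrp

open Groth.Agent.PicCurveSmoothLib (pullCl_pullCl pullCl_id isInvertibleCl_pullCl)

variable (k : Type u) [Field k]

local notation "Ω" => AlgebraicClosure k

/-- The spectrum of the algebraic closure over that of the field. -/
abbrev toBase : Spec (CommRingCat.of Ω) ⟶ Spec (CommRingCat.of k) :=
  Spec.map (CommRingCat.ofHom (algebraMap k Ω))

variable {k}

theorem nonempty_iso_of_cl_eq {Y : Scheme.{u}} {L M : Y.Modules} (h : PicF.cl L = PicF.cl M) : Nonempty (L ≅ M) := by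
  have h' := Quot.eqvGen_exact h
  clear h
  induction h' with
  | rel _ _ h₀ => exact h₀
  | refl _ => exact ⟨Iso.refl _⟩
  | symm _ _ _ h₀ => exact h₀.map Iso.symm
  | trans _ _ _ _ _ h₁ h₂ => obtain ⟨e⟩ := h₁; obtain ⟨e'⟩ := h₂; exact ⟨e ≪≫ e'⟩

theorem isTrivialCl_iff {X : Scheme.{u}} {L : X.Modules} : PicF.IsTrivialCl (PicF.cl L) ↔ CubeLib.Triv L :=
  ⟨fun h => CubeLib.triv_iff.2 (nonempty_iso_of_cl_eq h), fun h => Quot.sound (CubeLib.triv_iff.1 h)⟩

theorem isTrivialCl_pull {X Y : Scheme.{u}} (f : X ⟶ Y) {c : PicF.Cl Y} (h : PicF.IsTrivialCl c) :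
    PicF.IsTrivialCl (PicF.pullCl f c) := by
  rw [show c = _ from h]
  exact Quot.sound ⟨PicLoc.pullbackStructureIso _⟩

/-- Two points with values in a field differ by an endomorphism of the algebraic closure. -/
theorem exists_conj {κ : Type u} [Field κ] (s t : Ω →+* κ)
    (h : s.comp (algebraMap k Ω) = t.comp (algebraMap k Ω)) : ∃ τ : Ω →ₐ[k] Ω, s.comp τ.toRingHom = t := by
  letI : Algebra Ω κ := s.toAlgebra
  letI : Algebra k κ := (s.comp (algebraMap k Ω)).toAlgebra
  haveI : IsScalarTower k Ω κ := IsScalarTower.of_algebraMap_eq fun _ => rfl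
  let φ : Ω →ₐ[k] κ := ⟨t, fun r => (RingHom.congr_fun h r).symm⟩
  exact ⟨φ.restrictNormal Ω, RingHom.ext fun x => φ.restrictNormal_commutes Ω x⟩

/-- A function on a reduced scheme which vanishes at all points vanishes. -/
theorem eq_zero_of_points {T : Scheme.{u}} [IsReduced T] (r : Γ(T, ⊤))
    (h : ∀ z : T, (T.fromSpecResidueField z).appTop r = 0) : r = 0 := by
  refine (basicOpen_eq_bot_iff r).1 (TopologicalSpace.Opens.ext (Set.eq_empty_of_forall_notMem fun z hz => ?_))
  let pt := IsLocalRing.closedPoint (T.residueField z)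
  have h1 : pt ∈ (T.fromSpecResidueField z) ⁻¹ᵁ (T.basicOpen r) := by
    show T.fromSpecResidueField z pt ∈ T.basicOpen r
    rw [Scheme.fromSpecResidueField_apply]
    exact hz
  rw [Scheme.preimage_basicOpen] at h1
  have h2 : (T.fromSpecResidueField z).app ⊤ r = 0 := h z
  rw [h2, Scheme.basicOpen_zero] at h1
  exact h1

variable (k)

/-- The triviality of an invertible module on the product. -/
theorem triv [PerfectField k]
    (P Q : Over (Spec (CommRingCat.of k))) [GrpObj P] [GrpObj Q] [IsCommMonObj P]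
    [IsAffine P.left] [Smooth P.hom] [ConnectedSpace ↥P.left]
    [Smooth Q.hom] [QuasiCompact Q.hom] [ConnectedSpace ↥Q.left]
    (L : (P ⊗ Q).left.Modules) (hL : PicF.IsInvertible L)
    (hP : PicF.IsTrivialCl (PicF.pullCl (lift (𝟙 P) (toUnit P ≫ η[Q])).left (PicF.cl L)))
    (hQ : PicF.IsTrivialCl (PicF.pullCl (lift (toUnit Q ≫ η[P]) (𝟙 Q)).left (PicF.cl L))) :
    PicF.IsTrivialCl (PicF.cl L) := by
  let h := toBase k
  haveI : Flat h := by
    rw [HasRingHomProperty.Spec_iff (P := @Flat)]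
    exact RingHom.flat_algebraMap_iff.2 (inferInstance : Module.Flat k Ω)
  haveI : Surjective h := ⟨fun y => ⟨IsLocalRing.closedPoint Ω, Subsingleton.elim (α := PrimeSpectrum k) _ _⟩⟩
  haveI : IsFpqc h := IsFpqc.of_quasiCompact h
  let f := (P ⊗ Q).hom
  let g := pullback.fst f h
  let π := pullback.snd f h
  haveI : IsFpqc g := IsFpqc.of_isPullback (IsPullback.of_hasPullback f h).flip
  let P' := (Over.pullback h).obj P
  let Q' := (Over.pullback h).obj Q
  letI : GrpObj P' := Functor.grpObjObj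
  letI : GrpObj Q' := Functor.grpObjObj
  haveI : IsCommMonObj P' := inferInstance
  haveI : Subsingleton ↥(Spec (CommRingCat.of k)) := inferInstanceAs (Subsingleton (PrimeSpectrum k))
  haveI : Subsingleton ↥(Spec (CommRingCat.of Ω)) := inferInstanceAs (Subsingleton (PrimeSpectrum Ω))
  haveI := geometricallyIntegral_grp P
  haveI := geometricallyIntegral_grp Q
  haveI : GeometricallyIntegral P'.hom := inferInstanceAs (GeometricallyIntegral (pullback.snd P.hom h))
  haveI : GeometricallyIntegral Q'.hom := inferInstanceAs (GeometricallyIntegral (pullback.snd Q.hom h))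
  haveI : IsIntegral P'.left := GeometricallyIntegral.isIntegral_of_subsingleton P'.hom
  haveI : IsIntegral Q'.left := GeometricallyIntegral.isIntegral_of_subsingleton Q'.hom
  haveI : Smooth P'.hom := inferInstanceAs (Smooth (pullback.snd P.hom h))
  haveI : Smooth Q'.hom := inferInstanceAs (Smooth (pullback.snd Q.hom h))
  haveI : QuasiCompact Q'.hom := inferInstanceAs (QuasiCompact (pullback.snd Q.hom h))
  haveI : IsAffine P'.left := inferInstanceAs (IsAffine (pullback P.hom h))
  haveI : IsSeparated P'.hom := GrpSchLib.isSeparated_hom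
  haveI : IsSeparated Q'.hom := GrpSchLib.isSeparated_hom
  haveI : QuasiCompact P'.hom := inferInstance
  haveI : ConnectedSpace P'.left := inferInstance
  haveI : ConnectedSpace Q'.left := inferInstance
  let eP₀ : Spec (CommRingCat.of Ω) ⟶ pullback P.hom h := pullback.lift (h ≫ η[P].left) (𝟙 _) (by
    exact (Category.assoc _ _ _).trans ((congrArg (h ≫ ·) (Over.w η[P])).trans
      ((Category.comp_id h).trans (Category.id_comp h).symm)))
  let eQ₀ : Spec (CommRingCat.of Ω) ⟶ pullback Q.hom h := pullback.lift (h ≫ η[Q].left) (𝟙 _) (by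
    exact (Category.assoc _ _ _).trans ((congrArg (h ≫ ·) (Over.w η[Q])).trans
      ((Category.comp_id h).trans (Category.id_comp h).symm)))
  let eP : 𝟙_ (Over (Spec (CommRingCat.of Ω))) ⟶ P' := Over.homMk eP₀ (pullback.lift_snd _ _ _)
  let eQ : 𝟙_ (Over (Spec (CommRingCat.of Ω))) ⟶ Q' := Over.homMk eQ₀ (pullback.lift_snd _ _ _)
  let qP : pullback P.hom h ⟶ Spec (CommRingCat.of Ω) := pullback.snd P.hom h
  let qQ : pullback Q.hom h ⟶ Spec (CommRingCat.of Ω) := pullback.snd Q.hom h
  let iP : P.left ⟶ (P ⊗ Q).left := (lift (𝟙 P) (toUnit P ≫ η[Q])).left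
  let iQ : Q.left ⟶ (P ⊗ Q).left := (lift (toUnit Q ≫ η[P]) (𝟙 Q)).left
  have hiP : iP ≫ f = P.hom := Over.w (lift (𝟙 P) (toUnit P ≫ η[Q]))
  have hiQ : iQ ≫ f = Q.hom := Over.w (lift (toUnit Q ≫ η[P]) (𝟙 Q))
  have hiP1 : iP ≫ pullback.fst P.hom Q.hom = 𝟙 _ :=
    congrArg CommaMorphism.left (lift_fst (𝟙 P) (toUnit P ≫ η[Q]))
  have hiP2 : iP ≫ pullback.snd P.hom Q.hom = P.hom ≫ η[Q].left :=
    congrArg CommaMorphism.left (lift_snd (𝟙 P) (toUnit P ≫ η[Q]))
  have hiQ1 : iQ ≫ pullback.fst P.hom Q.hom = Q.hom ≫ η[P].left :=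
    congrArg CommaMorphism.left (lift_fst (toUnit Q ≫ η[P]) (𝟙 Q))
  have hiQ2 : iQ ≫ pullback.snd P.hom Q.hom = 𝟙 _ :=
    congrArg CommaMorphism.left (lift_snd (toUnit Q ≫ η[P]) (𝟙 Q))
  have hf1 : pullback.fst P.hom Q.hom ≫ P.hom = f := Over.w (fst P Q)
  have hf2 : pullback.snd P.hom Q.hom ≫ Q.hom = f := Over.w (snd P Q)
  let jP : pullback P.hom h ⟶ pullback f h := pullback.lift (pullback.fst _ _ ≫ iP) qP (by
    rw [Category.assoc, hiP]; exact pullback.condition)
  let jQ : pullback Q.hom h ⟶ pullback f h := pullback.lift (pullback.fst _ _ ≫ iQ) qQ (by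
    rw [Category.assoc, hiQ]; exact pullback.condition)
  let prP : pullback f h ⟶ pullback P.hom h := pullback.lift (g ≫ pullback.fst P.hom Q.hom) π (by
    rw [Category.assoc, hf1]; exact pullback.condition)
  let prQ : pullback f h ⟶ pullback Q.hom h := pullback.lift (g ≫ pullback.snd P.hom Q.hom) π (by
    rw [Category.assoc, hf2]; exact pullback.condition)
  have jPg : jP ≫ g = pullback.fst _ _ ≫ iP := pullback.lift_fst _ _ _
  have jQg : jQ ≫ g = pullback.fst _ _ ≫ iQ := pullback.lift_fst _ _ _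
  have jPπ : jP ≫ π = qP := pullback.lift_snd _ _ _
  have jQπ : jQ ≫ π = qQ := pullback.lift_snd _ _ _
  have ePq : eP₀ ≫ qP = 𝟙 _ := pullback.lift_snd _ _ _
  have eQq : eQ₀ ≫ qQ = 𝟙 _ := pullback.lift_snd _ _ _
  have jP_prP : jP ≫ prP = 𝟙 _ := by
    apply pullback.hom_ext
    · simp only [prP, Category.assoc, pullback.lift_fst, Category.id_comp]
      rw [← Category.assoc, jPg, Category.assoc, hiP1, Category.comp_id]
    · simp only [prP, Category.assoc, pullback.lift_snd, Category.id_comp, jPπ, qP]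
  have jQ_prQ : jQ ≫ prQ = 𝟙 _ := by
    apply pullback.hom_ext
    · simp only [prQ, Category.assoc, pullback.lift_fst, Category.id_comp]
      rw [← Category.assoc, jQg, Category.assoc, hiQ2, Category.comp_id]
    · simp only [prQ, Category.assoc, pullback.lift_snd, Category.id_comp, jQπ, qQ]
  have jP_prQ : jP ≫ prQ = qP ≫ eQ₀ := by
    apply pullback.hom_ext
    · simp only [prQ, eQ₀, Category.assoc, pullback.lift_fst]
      rw [← Category.assoc, jPg, Category.assoc, hiP2, ← Category.assoc, pullback.condition, Category.assoc]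
    · simp only [prQ, eQ₀, Category.assoc, pullback.lift_snd, jPπ, Category.comp_id]
  have jQ_prP : jQ ≫ prP = qQ ≫ eP₀ := by
    apply pullback.hom_ext
    · simp only [prP, eP₀, Category.assoc, pullback.lift_fst]
      rw [← Category.assoc, jQg, Category.assoc, hiQ1, ← Category.assoc, pullback.condition, Category.assoc]
    · simp only [prP, eP₀, Category.assoc, pullback.lift_snd, jQπ, Category.comp_id]
  have ho : eP₀ ≫ jP = eQ₀ ≫ jQ := by
    apply pullback.hom_ext
    · show (eP₀ ≫ jP) ≫ g = (eQ₀ ≫ jQ) ≫ g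
      rw [Category.assoc, Category.assoc, jPg, jQg]
      simp only [eP₀, eQ₀, pullback.lift_fst_assoc, Category.assoc]
      congr 1
      apply pullback.hom_ext
      · rw [Category.assoc, Category.assoc, hiP1, hiQ1, Category.comp_id, ← Category.assoc,
          show η[Q].left ≫ Q.hom = 𝟙 _ from Over.w η[Q]]
        exact (Category.id_comp _).symm
      · rw [Category.assoc, Category.assoc, hiP2, hiQ2, Category.comp_id, ← Category.assoc,
          show η[P].left ≫ P.hom = 𝟙 _ from Over.w η[P]]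
        exact Category.id_comp _
    · show (eP₀ ≫ jP) ≫ π = (eQ₀ ≫ jQ) ≫ π
      rw [Category.assoc, Category.assoc, jPπ, jQπ, ePq, eQq]
  -- the comparison with the product over the closure
  let Φ : (P' ⊗ Q').left ⟶ pullback f h :=
    pullback.lift (pullback.lift (pullback.fst P'.hom Q'.hom ≫ pullback.fst P.hom h)
      (pullback.snd P'.hom Q'.hom ≫ pullback.fst Q.hom h) (by
        rw [Category.assoc, Category.assoc, pullback.condition, pullback.condition, ← Category.assoc,
          ← Category.assoc]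
        exact congrArg (· ≫ h) pullback.condition))
      (pullback.fst P'.hom Q'.hom ≫ qP) (by
        rw [← hf1, ← Category.assoc, pullback.lift_fst, Category.assoc, pullback.condition, Category.assoc])
  let Ψ : pullback f h ⟶ (P' ⊗ Q').left := pullback.lift prP prQ (by
    show prP ≫ qP = prQ ≫ qQ
    simp only [prP, prQ, qP, qQ, pullback.lift_snd])
  have hΨΦ : Ψ ≫ Φ = 𝟙 _ := by
    apply pullback.hom_ext
    · apply pullback.hom_ext <;> simp [Ψ, Φ, prP, prQ, g]
    · simp [Ψ, Φ, prP, qP, π]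
  have hΦP : (lift (𝟙 P') (toUnit P' ≫ eQ)).left ≫ Φ = jP := by
    have h1 : (lift (𝟙 P') (toUnit P' ≫ eQ)).left ≫ pullback.fst P'.hom Q'.hom = 𝟙 _ :=
      congrArg CommaMorphism.left (lift_fst (𝟙 P') (toUnit P' ≫ eQ))
    have h2 : (lift (𝟙 P') (toUnit P' ≫ eQ)).left ≫ pullback.snd P'.hom Q'.hom = qP ≫ eQ₀ :=
      congrArg CommaMorphism.left (lift_snd (𝟙 P') (toUnit P' ≫ eQ))
    apply pullback.hom_ext
    · show _ = jP ≫ g
      rw [jPg, Category.assoc]
      simp only [Φ, pullback.lift_fst]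
      apply pullback.hom_ext
      · simp only [Category.assoc, pullback.lift_fst]
        rw [reassoc_of% h1, hiP1, Category.comp_id]
      · simp only [Category.assoc, pullback.lift_snd]
        rw [reassoc_of% h2, hiP2]
        simp only [eQ₀, pullback.lift_fst, qP]
        rw [← Category.assoc, ← pullback.condition, Category.assoc]
    · show _ = jP ≫ π
      rw [jPπ, Category.assoc]
      simp only [Φ, pullback.lift_snd]
      rw [reassoc_of% h1]
  have hΦQ : (lift (toUnit Q' ≫ eP) (𝟙 Q')).left ≫ Φ = jQ := by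
    have h1 : (lift (toUnit Q' ≫ eP) (𝟙 Q')).left ≫ pullback.fst P'.hom Q'.hom = qQ ≫ eP₀ :=
      congrArg CommaMorphism.left (lift_fst (toUnit Q' ≫ eP) (𝟙 Q'))
    have h2 : (lift (toUnit Q' ≫ eP) (𝟙 Q')).left ≫ pullback.snd P'.hom Q'.hom = 𝟙 _ :=
      congrArg CommaMorphism.left (lift_snd (toUnit Q' ≫ eP) (𝟙 Q'))
    apply pullback.hom_ext
    · show _ = jQ ≫ g
      rw [jQg, Category.assoc]
      simp only [Φ, pullback.lift_fst]
      apply pullback.hom_ext
      · simp only [Category.assoc, pullback.lift_fst]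
        rw [reassoc_of% h1, hiQ1]
        simp only [eP₀, pullback.lift_fst, qQ]
        rw [← Category.assoc, ← pullback.condition, Category.assoc]
      · simp only [Category.assoc, pullback.lift_snd]
        rw [reassoc_of% h2, hiQ2, Category.comp_id]
    · show _ = jQ ≫ π
      rw [jQπ, Category.assoc]
      simp only [Φ, pullback.lift_snd]
      rw [reassoc_of% h1, ePq, Category.comp_id]
  -- triviality over the closure
  have htriv : CubeLib.Triv ((Scheme.Modules.pullback g).obj L) := by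
    have h1 : PicF.IsTrivialCl (PicF.pullCl Φ (PicF.pullCl g (PicF.cl L))) := by
      refine isTrivialCl_closed eP _ (isInvertibleCl_pullCl _ (isInvertibleCl_pullCl _ ⟨L, rfl, hL⟩)) ?_
      rw [pullCl_pullCl, hΦQ, pullCl_pullCl, jQg, ← pullCl_pullCl]
      exact isTrivialCl_pull _ hQ
    have h2 := isTrivialCl_pull Ψ h1
    rw [pullCl_pullCl Ψ Φ, hΨΦ, pullCl_id] at h2
    exact isTrivialCl_iff.1 h2
  obtain ⟨σ, hσ⟩ := htriv
  obtain ⟨v, hvu, -, hv⟩ := exists_ratio g hL (σ := σ) hσ
  obtain ⟨CP, hCPu, hCP⟩ := exists_axis_unit hL hσ hv iP (isTrivialCl_iff.1 hP) jP (pullback.fst P.hom h) jPg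
  obtain ⟨CQ, hCQu, hCQ⟩ := exists_axis_unit hL hσ hv iQ (isTrivialCl_iff.1 hQ) jQ (pullback.fst Q.hom h) jQg
  let cP := eP₀.appTop CP
  let cQ := eQ₀.appTop CQ
  obtain ⟨cP', hcP'⟩ := (hCPu.map eP₀.appTop.hom).exists_right_inv
  change cP * cP' = 1 at hcP'
  let C := prP.appTop CP * prQ.appTop CQ * π.appTop cP'
  have hCu : IsUnit C :=
    ((hCPu.map prP.appTop.hom).mul (hCQu.map prQ.appTop.hom)).mul
      ((IsUnit.of_mul_eq_one cP (by rw [_root_.mul_comm, hcP']) : IsUnit cP').map π.appTop.hom)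
  have hCP' : jP.appTop C = CP * qP.appTop (cQ * cP') := by
    simp only [C, map_mul, appTop_comp_apply, jP_prP, jP_prQ, jPπ, appTop_id_apply, cQ]
    ring
  have hCQ' : jQ.appTop C = CQ := by
    simp only [C, map_mul, appTop_comp_apply, jQ_prQ, jQ_prP, jQπ, appTop_id_apply]
    rw [← appTop_comp_apply qQ eP₀ CP, _root_.mul_comm _ CQ, _root_.mul_assoc, ← map_mul]
    rw [show eP₀.appTop CP * cP' = 1 from hcP', map_one, _root_.mul_one]
  have hwf : ∀ {T : Scheme.{u}} (a b : T ⟶ pullback f h), a ≫ g = b ≫ g → (a ≫ π) ≫ h = (b ≫ π) ≫ h := by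
    intro T a b w
    simp only [Category.assoc, π, ← pullback.condition]
    exact (reassoc_of% w) _
  -- the defect
  let D : ∀ {T : Scheme.{u}} (a b : T ⟶ pullback f h), a ≫ g = b ≫ g → Γ(T, ⊤) :=
    fun {T} a b w => val2 g v a b w * a.appTop C - b.appTop C
  have hDn : ∀ {T T' : Scheme.{u}} (m : T' ⟶ T) (a b : T ⟶ pullback f h) (w : a ≫ g = b ≫ g)
      (a' b' : T' ⟶ pullback f h) (_ : m ≫ a = a') (_ : m ≫ b = b') (w' : a' ≫ g = b' ≫ g),
      m.appTop (D a b w) = D a' b' w' := by
    intro T T' m a b w a' b' ha hb w'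
    show m.appTop (_ - _) = _
    rw [map_sub, map_mul, appTop_comp_apply, appTop_comp_apply, ha, hb, val2_comp g v m a b w a' b' ha hb w']
  -- origin
  have horig : ∀ {T : Scheme.{u}} (p q : T ⟶ Spec (CommRingCat.of Ω)), p ≫ h = q ≫ h →
      p.appTop cQ * q.appTop cP = q.appTop cQ * p.appTop cP := by
    intro T p q hpq
    have h1 : (p ≫ eP₀) ≫ pullback.fst P.hom h = (q ≫ eP₀) ≫ pullback.fst P.hom h := by
      simp only [eP₀, Category.assoc, pullback.lift_fst]
      exact (reassoc_of% hpq) _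
    have h2 : (p ≫ eQ₀) ≫ pullback.fst Q.hom h = (q ≫ eQ₀) ≫ pullback.fst Q.hom h := by
      simp only [eQ₀, Category.assoc, pullback.lift_fst]
      exact (reassoc_of% hpq) _
    have w1 : ((p ≫ eP₀) ≫ jP) ≫ g = ((q ≫ eP₀) ≫ jP) ≫ g := by
      simp only [Category.assoc, jPg] at h1 ⊢
      exact (reassoc_of% h1) iP
    have w2 : ((p ≫ eQ₀) ≫ jQ) ≫ g = ((q ≫ eQ₀) ≫ jQ) ≫ g := by
      simp only [Category.assoc, jQg] at h2 ⊢
      exact (reassoc_of% h2) iQ
    have a1 := hCP T _ _ h1 w1
    have a2 := hCQ T _ _ h2 w2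
    have e1 : val2 g v ((p ≫ eP₀) ≫ jP) ((q ≫ eP₀) ≫ jP) w1 = val2 g v ((p ≫ eQ₀) ≫ jQ) ((q ≫ eQ₀) ≫ jQ) w2 := by
      congr 1 <;> rw [Category.assoc, Category.assoc, ho]
    rw [e1, ← appTop_comp_apply, ← appTop_comp_apply] at a1
    rw [← appTop_comp_apply, ← appTop_comp_apply] at a2
    show p.appTop (eQ₀.appTop CQ) * q.appTop (eP₀.appTop CP) = q.appTop (eQ₀.appTop CQ) * p.appTop (eP₀.appTop CP)
    rw [← a1, ← a2]
    ring
  have haxP : ∀ {T : Scheme.{u}} (p q : T ⟶ pullback P.hom h) (_ : p ≫ pullback.fst P.hom h = q ≫ pullback.fst P.hom h)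
      (w : (p ≫ jP) ≫ g = (q ≫ jP) ≫ g), D (p ≫ jP) (q ≫ jP) w = 0 := by
    intro T p q hpq w
    show _ - _ = 0
    rw [sub_eq_zero, ← appTop_comp_apply p jP, ← appTop_comp_apply q jP, hCP', map_mul p.appTop.hom,
      map_mul q.appTop.hom, ← _root_.mul_assoc, hCP T p q hpq w]
    congr 1
    rw [appTop_comp_apply p qP, appTop_comp_apply q qP]
    have hh := horig (p ≫ qP) (q ≫ qP) (by
      simp only [qP, Category.assoc, ← pullback.condition]
      exact (reassoc_of% hpq) _)
    rw [map_mul, map_mul]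
    have i1 : ∀ c : T ⟶ Spec (CommRingCat.of Ω), c.appTop cP * c.appTop cP' = 1 := fun c => by
      rw [← map_mul, hcP', map_one]
    calc (p ≫ qP).appTop cQ * (p ≫ qP).appTop cP'
        = ((p ≫ qP).appTop cQ * (q ≫ qP).appTop cP) * ((p ≫ qP).appTop cP' * (q ≫ qP).appTop cP') := by
          rw [_root_.mul_mul_mul_comm, i1, _root_.mul_one]
      _ = ((q ≫ qP).appTop cQ * (p ≫ qP).appTop cP) * ((p ≫ qP).appTop cP' * (q ≫ qP).appTop cP') := by rw [hh]
      _ = _ := by rw [_root_.mul_assoc, ← _root_.mul_assoc ((p ≫ qP).appTop cP), i1, _root_.one_mul]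
  have haxQ : ∀ {T : Scheme.{u}} (p q : T ⟶ pullback Q.hom h) (_ : p ≫ pullback.fst Q.hom h = q ≫ pullback.fst Q.hom h)
      (w : (p ≫ jQ) ≫ g = (q ≫ jQ) ≫ g), D (p ≫ jQ) (q ≫ jQ) w = 0 := by
    intro T p q hpq w
    show _ - _ = 0
    rw [sub_eq_zero, ← appTop_comp_apply, ← appTop_comp_apply, hCQ']
    exact hCQ T p q hpq w
  -- the conjugates
  have hconj : ∀ τ : Ω →ₐ[k] Ω, ∀ (b : pullback f h ⟶ pullback f h) (_ : b ≫ g = g)
      (_ : b ≫ π = π ≫ Spec.map (CommRingCat.ofHom τ.toRingHom)) (w : 𝟙 _ ≫ g = b ≫ g), D (𝟙 _) b w = 0 := by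
    intro τ b hbg hbπ w
    let tb : Spec (CommRingCat.of Ω) ⟶ Spec (CommRingCat.of Ω) := Spec.map (CommRingCat.ofHom τ.toRingHom)
    have htb : tb ≫ h = h := by
      show Spec.map _ ≫ Spec.map _ = Spec.map _
      rw [← Spec.map_comp, ← CommRingCat.ofHom_comp]
      congr 2
      exact τ.comp_algebraMap
    let tP : pullback P.hom h ⟶ pullback P.hom h := pullback.lift (pullback.fst _ _) (qP ≫ tb) (by
      rw [Category.assoc, htb]; exact pullback.condition)
    let tQ : pullback Q.hom h ⟶ pullback Q.hom h := pullback.lift (pullback.fst _ _) (qQ ≫ tb) (by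
      rw [Category.assoc, htb]; exact pullback.condition)
    have hbP : jP ≫ b = tP ≫ jP := by
      apply pullback.hom_ext
      · show (jP ≫ b) ≫ g = (tP ≫ jP) ≫ g
        rw [Category.assoc, hbg, Category.assoc, jPg, ← Category.assoc, show tP ≫ pullback.fst P.hom h = _ from pullback.lift_fst _ _ _]
      · show (jP ≫ b) ≫ π = (tP ≫ jP) ≫ π
        rw [Category.assoc, hbπ, reassoc_of% jPπ, Category.assoc, jPπ]
        exact (pullback.lift_snd _ _ _).symm
    have hbQ : jQ ≫ b = tQ ≫ jQ := by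
      apply pullback.hom_ext
      · show (jQ ≫ b) ≫ g = (tQ ≫ jQ) ≫ g
        rw [Category.assoc, hbg, Category.assoc, jQg, ← Category.assoc, show tQ ≫ pullback.fst Q.hom h = _ from pullback.lift_fst _ _ _]
      · show (jQ ≫ b) ≫ π = (tQ ≫ jQ) ≫ π
        rw [Category.assoc, hbπ, reassoc_of% jQπ, Category.assoc, jQπ]
        exact (pullback.lift_snd _ _ _).symm
    let A := val2 g v (𝟙 _) b w * (𝟙 (pullback f h) : _ ⟶ _).appTop C
    obtain ⟨B, hB⟩ := (hCu.map b.appTop.hom).exists_right_inv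
    change b.appTop C * B = 1 at hB
    let U := A * B
    have hUu : IsUnit U := ((isUnit_val2 g hvu _ b w).mul (hCu.map _)).mul
      (IsUnit.of_mul_eq_one (b.appTop C) (by rw [_root_.mul_comm, hB]))
    have hU : ∀ {Z : Scheme.{u}} (j : Z ⟶ pullback f h) (t : Z ⟶ Z) (_ : j ≫ b = t ≫ j)
        (w' : j ≫ g = (t ≫ j) ≫ g), D j (t ≫ j) w' = 0 → j.appTop U = 1 := by
      intro Z j t hjt w' hD
      have h1 := hDn j (𝟙 _) b w j (t ≫ j) (Category.comp_id j) hjt w'
      rw [hD, show D (𝟙 _) b w = A - b.appTop C from rfl, map_sub, sub_eq_zero] at h1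
      show j.appTop (A * B) = 1
      rw [map_mul, h1, ← map_mul, hB, map_one]
    have hone : Φ.appTop U = 1 := by
      refine unit_eq_one (X := P') (Y := Q') eP eQ _ (hUu.map Φ.appTop.hom) ?_ ?_
      · rw [appTop_comp_apply, hΦP]
        have w' : (𝟙 _ ≫ jP) ≫ g = (tP ≫ jP) ≫ g := by
          rw [Category.id_comp, ← hbP, Category.assoc, hbg]
        have := haxP (𝟙 _) tP (by rw [Category.id_comp]; exact (pullback.lift_fst _ _ _).symm) w'
        refine hU jP tP hbP (by rwa [Category.id_comp] at w') ?_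
        simpa only [Category.id_comp] using this
      · rw [appTop_comp_apply, hΦQ]
        have w' : (𝟙 _ ≫ jQ) ≫ g = (tQ ≫ jQ) ≫ g := by
          rw [Category.id_comp, ← hbQ, Category.assoc, hbg]
        have := haxQ (𝟙 _) tQ (by rw [Category.id_comp]; exact (pullback.lift_fst _ _ _).symm) w'
        refine hU jQ tQ hbQ (by rwa [Category.id_comp] at w') ?_
        simpa only [Category.id_comp] using this
    have hU1 : U = 1 := by
      have := congrArg Ψ.appTop hone
      rwa [map_one, appTop_comp_apply, hΨΦ, appTop_id_apply] at this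
    show A - b.appTop C = 0
    rw [sub_eq_zero]
    calc A = U * b.appTop C := by simp only [U]; rw [_root_.mul_assoc, _root_.mul_comm B, hB, _root_.mul_one]
      _ = b.appTop C := by rw [hU1, _root_.one_mul]
  -- the universal pair
  haveI : IsReduced (P ⊗ Q).left := by
    haveI : IsReduced P.left := ASp.isReduced_of_smooth P.hom
    haveI : IsReduced Q.left := ASp.isReduced_of_smooth Q.hom
    exact FinGrpdLib.isReduced_pullback (Iso.refl _) P.hom Q.hom
  haveI : IsReduced (pullback f h) := FinGrpdLib.isReduced_pullback (Iso.refl _) f h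
  haveI : IsReduced (pullback (π ≫ h) h) := FinGrpdLib.isReduced_pullback (Iso.refl _) (π ≫ h) h
  let a₀ := pullback.fst (π ≫ h) h
  let b₀ : pullback (π ≫ h) h ⟶ pullback f h := pullback.lift (a₀ ≫ g) (pullback.snd (π ≫ h) h) (by
    rw [Category.assoc, show g ≫ f = π ≫ h from pullback.condition]
    exact pullback.condition)
  have w₀ : a₀ ≫ g = b₀ ≫ g := (pullback.lift_fst _ _ _).symm
  have hD0 : D a₀ b₀ w₀ = 0 := by
    refine eq_zero_of_points _ fun z => ?_
    let e := (pullback (π ≫ h) h).fromSpecResidueField z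
    obtain ⟨s, hs⟩ := Spec.map_surjective ((e ≫ a₀) ≫ π)
    obtain ⟨t, ht⟩ := Spec.map_surjective (e ≫ pullback.snd (π ≫ h) h)
    have hst : s.hom.comp (algebraMap k Ω) = t.hom.comp (algebraMap k Ω) := by
      have h1 : Spec.map (CommRingCat.ofHom (algebraMap k Ω) ≫ s) = Spec.map (CommRingCat.ofHom (algebraMap k Ω) ≫ t) := by
        rw [Spec.map_comp, Spec.map_comp, hs, ht]
        simp only [Category.assoc, a₀]
        congr 1
        exact pullback.condition
      exact congrArg CommRingCat.Hom.hom (Spec.map_injective h1)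
    obtain ⟨τ, hτ⟩ := exists_conj s.hom t.hom hst
    let b : pullback f h ⟶ pullback f h :=
      pullback.lift g (π ≫ Spec.map (CommRingCat.ofHom τ.toRingHom)) (by
        rw [Category.assoc, ← Spec.map_comp, ← CommRingCat.ofHom_comp,
          show τ.toRingHom.comp (algebraMap k Ω) = algebraMap k Ω from τ.comp_algebraMap]
        exact pullback.condition)
    have hbg : b ≫ g = g := pullback.lift_fst _ _ _
    have w : 𝟙 _ ≫ g = b ≫ g := by rw [Category.id_comp, hbg]
    have hb : (e ≫ a₀) ≫ b = e ≫ b₀ := by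
      apply pullback.hom_ext
      · show ((e ≫ a₀) ≫ b) ≫ g = (e ≫ b₀) ≫ g
        rw [Category.assoc, hbg, Category.assoc, Category.assoc, w₀]
      · simp only [b, b₀, Category.assoc, pullback.lift_snd]
        rw [← ht, show t = CommRingCat.ofHom τ.toRingHom ≫ s from CommRingCat.hom_ext hτ.symm, Spec.map_comp, hs]
        simp only [Category.assoc]
    rw [hDn e a₀ b₀ w₀ (e ≫ a₀) (e ≫ b₀) rfl rfl (by rw [Category.assoc, w₀, Category.assoc]),
      ← hDn (e ≫ a₀) (𝟙 _) b w (e ≫ a₀) (e ≫ b₀) (Category.comp_id _) hb (by rw [Category.assoc, w₀, Category.assoc]),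
      hconj τ b hbg (pullback.lift_snd _ _ _) w, map_zero]
  refine isTrivialCl_iff.2 (triv_of_coboundary g hL hσ hv hCu fun T a b w => ?_)
  let m : T ⟶ pullback (π ≫ h) h := pullback.lift a (b ≫ π) (by
    rw [← Category.assoc]; exact hwf a b w)
  have hma : m ≫ a₀ = a := pullback.lift_fst _ _ _
  have hmb : m ≫ b₀ = b := by
    apply pullback.hom_ext
    · show (m ≫ b₀) ≫ g = b ≫ g
      rw [Category.assoc, ← w₀, ← Category.assoc, hma, w]
    · simp only [m, b₀, Category.assoc, pullback.lift_snd]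
      rfl
  have := hDn m a₀ b₀ w₀ a b hma hmb w
  rw [hD0, map_zero] at this
  exact sub_eq_zero.1 this.symm

end Groth.Agent.PicProdGrp
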